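import Mathlib
import Groth.Prelude.Def_SGA6

/-!
# The resolution theorem for K₀
-/

set_option autoImplicit false

universe v u

open CategoryTheory CategoryTheory.Limits ZeroObject

namespace Groth.Agent.Resolution28

variable {C : Type u} [Category.{v} C] [Abelian C]

theorem clSub_rel {P : ObjectProperty C} {S : ShortComplex C} (hS : S.ShortExact) (h₁ : P S.X₁) (h₂ : P S.X₂)
    (h₃ : P S.X₃) : KZero.clSub P S.X₂ = KZero.clSub P S.X₁ + KZero.clSub P S.X₃ := by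
  rw [KZero.clSub, KZero.clSub, KZero.clSub, dif_pos h₁, dif_pos h₂, dif_pos h₃]
  erw [← QuotientAddGroup.mk_add, QuotientAddGroup.eq]
  refine AddSubgroup.neg_mem_iff (KZero.relSub P) |>.mp (AddSubgroup.subset_closure ⟨S, h₁, h₂, h₃, hS, ?_⟩)
  abel

/-- the kernels of a morphism of short exact sequences with epi outer components -/
theorem kernels_shortExact {S T : ShortComplex C} (hS : S.ShortExact) (hT : T.ShortExact) (φ : S ⟶ T)
    [Epi φ.τ₁] [Epi φ.τ₃] :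
    Epi φ.τ₂ ∧ (ShortComplex.mk (kernel.map φ.τ₁ φ.τ₂ S.f T.f φ.comm₁₂)
      (kernel.map φ.τ₂ φ.τ₃ S.g T.g φ.comm₂₃)
      (by apply equalizer.hom_ext; simp)).ShortExact := by
  haveI := hS.mono_f
  haveI := hS.epi_g
  haveI := hT.mono_f
  constructor
  · rw [epi_iff_surjective_up_to_refinements]
    intro A z
    obtain ⟨A', π, hπ, w, hw⟩ := surjective_up_to_refinements_of_epi φ.τ₃ (z ≫ T.g)
    obtain ⟨A'', π', hπ', x, hx⟩ := surjective_up_to_refinements_of_epi S.g w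
    have h0 : (π' ≫ π ≫ z - x ≫ φ.τ₂) ≫ T.g = 0 := by
      rw [Preadditive.sub_comp, Category.assoc, Category.assoc, hw, Category.assoc x, φ.comm₂₃,
        ← Category.assoc π' w, hx, Category.assoc, sub_self]
    obtain ⟨A''', π'', hπ'', y, hy⟩ := hT.exact.exact_up_to_refinements _ h0
    obtain ⟨A4, π''', hπ''', x₁, hx₁⟩ := surjective_up_to_refinements_of_epi φ.τ₁ y
    refine ⟨A4, π''' ≫ π'' ≫ π' ≫ π, inferInstance, π''' ≫ π'' ≫ x + x₁ ≫ S.f, ?_⟩
    have e1 : π''' ≫ π'' ≫ (π' ≫ π ≫ z - x ≫ φ.τ₂) = x₁ ≫ S.f ≫ φ.τ₂ := by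
      rw [hy, ← φ.comm₁₂, ← Category.assoc π''' y, hx₁, Category.assoc]
    simp only [Preadditive.comp_sub, sub_eq_iff_eq_add] at e1
    simp only [Preadditive.add_comp, Category.assoc]
    rw [e1, add_comm]
  · haveI : Mono (kernel.map φ.τ₁ φ.τ₂ S.f T.f φ.comm₁₂) :=
      Preadditive.mono_of_cancel_zero _ fun t ht => by
        apply equalizer.hom_ext
        refine (cancel_mono S.f).mp ?_
        have := congrArg (· ≫ kernel.ι φ.τ₂) ht
        simpa using this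
    haveI : Epi (kernel.map φ.τ₂ φ.τ₃ S.g T.g φ.comm₂₃) := by
      rw [epi_iff_surjective_up_to_refinements]
      intro A z
      obtain ⟨A', π, hπ, x, hx⟩ := surjective_up_to_refinements_of_epi S.g (z ≫ kernel.ι φ.τ₃)
      have h0 : (x ≫ φ.τ₂) ≫ T.g = 0 := by
        rw [Category.assoc, φ.comm₂₃, ← Category.assoc, ← hx]
        simp
      obtain ⟨A'', π', hπ', y, hy⟩ := hT.exact.exact_up_to_refinements (x ≫ φ.τ₂) h0
      obtain ⟨A''', π'', hπ'', x₁, hx₁⟩ := surjective_up_to_refinements_of_epi φ.τ₁ y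
      refine ⟨A''', π'' ≫ π' ≫ π, inferInstance,
        kernel.lift φ.τ₂ (π'' ≫ π' ≫ x - x₁ ≫ S.f) ?_, ?_⟩
      · rw [Preadditive.sub_comp, Category.assoc, Category.assoc, Category.assoc, hy, ← φ.comm₁₂,
          ← Category.assoc π'' y, hx₁, Category.assoc, sub_self]
      · apply equalizer.hom_ext
        simp [hx]
    refine ShortComplex.ShortExact.mk' ?_ inferInstance inferInstance
    rw [ShortComplex.exact_iff_exact_up_to_refinements]
    intro A x hx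
    have h0 : (x ≫ kernel.ι φ.τ₂) ≫ S.g = 0 := by
      have := congrArg (· ≫ kernel.ι φ.τ₃) hx
      simpa using this
    obtain ⟨A', π, hπ, y, hy⟩ := hS.exact.exact_up_to_refinements _ h0
    refine ⟨A', π, hπ, kernel.lift φ.τ₁ y ?_, ?_⟩
    · refine (cancel_mono T.f).mp ?_
      rw [Category.assoc, φ.comm₁₂, ← Category.assoc, ← hy]
      simp
    · apply equalizer.hom_ext
      simpa using hy

variable (P₀ P₁ : ObjectProperty C)

/-- every `n`-step resolution ends in `P₀` -/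
def D : ℕ → C → Prop
  | 0, A => P₀ A
  | n + 1, A => P₁ A ∧ ∀ (L : C) (p : L ⟶ A), Epi p → P₀ L → D n (kernel p)

/-- the Euler characteristic relation -/
inductive Chi : C → KZero.K0sub P₀ → Prop
  | base {A : C} : P₀ A → Chi A (KZero.clSub P₀ A)
  | step {A L : C} (p : L ⟶ A) {x : KZero.K0sub P₀} : Epi p → P₀ L → Chi (kernel p) x →
      Chi A (KZero.clSub P₀ L - x)

variable [P₀.IsClosedUnderIsomorphisms] [P₁.IsClosedUnderIsomorphisms]

/-- the hypotheses of the resolution theorem -/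
structure Hyp : Prop where
  le : ∀ X, P₀ X → P₁ X
  ext₀ : ∀ S : ShortComplex C, S.ShortExact → P₀ S.X₁ → P₀ S.X₃ → P₀ S.X₂
  ext₁ : ∀ S : ShortComplex C, S.ShortExact → P₁ S.X₁ → P₁ S.X₃ → P₁ S.X₂
  ker₀ : ∀ S : ShortComplex C, S.ShortExact → P₀ S.X₂ → P₀ S.X₃ → P₀ S.X₁
  ker₁ : ∀ S : ShortComplex C, S.ShortExact → P₁ S.X₂ → P₁ S.X₃ → P₁ S.X₁
  cover : ∀ (A B D : C) (u : A ⟶ B) (v : D ⟶ B), Epi u → P₁ A → P₁ B → P₁ D →
      ∃ (L : C) (u' : L ⟶ D) (v' : L ⟶ A), P₀ L ∧ Epi u' ∧ u' ≫ v = v' ≫ u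

variable {P₀ P₁} (H : Hyp P₀ P₁)

theorem ses_kernel {L A : C} (p : L ⟶ A) [Epi p] :
    (ShortComplex.mk (kernel.ι p) p (kernel.condition p)).ShortExact :=
  ShortComplex.ShortExact.mk' (ShortComplex.exact_of_f_is_kernel _ (kernelIsKernel p)) inferInstance inferInstance

noncomputable def biprod_swap_iso (M L : C) :
    ShortComplex.mk (biprod.inl : M ⟶ M ⊞ L) biprod.snd biprod.inl_snd ≅
      ShortComplex.mk (biprod.inr : M ⟶ L ⊞ M) biprod.fst biprod.inr_fst :=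
  ShortComplex.isoMk (Iso.refl _) (biprod.braiding M L) (Iso.refl _)
    (by apply biprod.hom_ext <;> simp) (by simp)

theorem biprod_ses (A B : C) :
    (ShortComplex.mk (biprod.inl : A ⟶ A ⊞ B) (biprod.snd : A ⊞ B ⟶ B) biprod.inl_snd).ShortExact :=
  (ShortComplex.Splitting.ofHasBinaryBiproduct A B).shortExact

include H

theorem pos_ker₀ {L A : C} (p : L ⟶ A) [Epi p] (hL : P₀ L) (hA : P₀ A) : P₀ (kernel p) :=
  H.ker₀ _ (ses_kernel p) hL hA

theorem pos_ker₁ {L A : C} (p : L ⟶ A) [Epi p] (hL : P₁ L) (hA : P₁ A) : P₁ (kernel p) :=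
  H.ker₁ _ (ses_kernel p) hL hA

theorem cl_kernel {L A : C} (p : L ⟶ A) [Epi p] (hL : P₀ L) (hA : P₀ A) :
    KZero.clSub P₀ L = KZero.clSub P₀ (kernel p) + KZero.clSub P₀ A :=
  clSub_rel (ses_kernel p) (pos_ker₀ H p hL hA) hL hA

theorem p0_biprod {A B : C} (hA : P₀ A) (hB : P₀ B) : P₀ (A ⊞ B) := H.ext₀ _ (biprod_ses A B) hA hB

theorem cl_biprod {A B : C} (hA : P₀ A) (hB : P₀ B) :
    KZero.clSub P₀ (A ⊞ B) = KZero.clSub P₀ A + KZero.clSub P₀ B :=
  clSub_rel (biprod_ses A B) hA (p0_biprod H hA hB) hB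

theorem exists_cover {A : C} (hA : P₁ A) : ∃ (L : C) (p : L ⟶ A), Epi p ∧ P₀ L := by
  obtain ⟨L, u', _, hL, hu, -⟩ := H.cover A A A (𝟙 A) (𝟙 A) inferInstance hA hA hA
  exact ⟨L, u', hu, hL⟩

theorem D_P₁ {n : ℕ} {A : C} (h : D P₀ P₁ n A) : P₁ A := by
  cases n with
  | zero => exact H.le A h
  | succ n => exact h.1

theorem D_succ : ∀ {n : ℕ} {A : C}, D P₀ P₁ n A → D P₀ P₁ (n + 1) A
  | 0, A, h => ⟨H.le A h, fun L p hp hL => pos_ker₀ H p hL h⟩
  | n + 1, A, h => ⟨h.1, fun L p hp hL => D_succ (h.2 L p hp hL)⟩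

theorem D_mono {m n : ℕ} (h : m ≤ n) {A : C} (hA : D P₀ P₁ m A) : D P₀ P₁ n A := by
  induction h with
  | refl => exact hA
  | step _ ih => exact D_succ H ih

theorem D_of_iso : ∀ {n : ℕ} {A B : C}, (A ≅ B) → D P₀ P₁ n A → D P₀ P₁ n B
  | 0, A, B, e, h => P₀.prop_of_iso e h
  | n + 1, A, B, e, h => ⟨P₁.prop_of_iso e h.1, fun L p hp hL =>
      D_of_iso (kernelCompMono p e.inv) (h.2 L (p ≫ e.inv) (epi_comp _ _) hL)⟩

theorem unique_zero {A : C} (hA : P₀ A) {x : KZero.K0sub P₀} (h : Chi P₀ A x) : x = KZero.clSub P₀ A := by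
  induction h with
  | base _ => rfl
  | step p hp hL hk ih =>
    haveI := hp
    rw [ih (pos_ker₀ H p hL hA), cl_kernel H p hL hA]
    abel

theorem chi_iso {A B : C} (e : A ≅ B) {x : KZero.K0sub P₀} (h : Chi P₀ A x) : ∃ (L : C) (p : L ⟶ B) (y : KZero.K0sub P₀),
    Epi p ∧ P₀ L ∧ Chi P₀ (kernel p) y ∧ x = KZero.clSub P₀ L - y := by
  cases h with
  | base hA =>
    haveI : Epi e.hom := inferInstance
    refine ⟨A, e.hom, KZero.clSub P₀ (kernel e.hom), inferInstance, hA,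
      Chi.base (pos_ker₀ H e.hom hA (P₀.prop_of_iso e hA)), ?_⟩
    have hz : P₀ (kernel e.hom) := pos_ker₀ H e.hom hA (P₀.prop_of_iso e hA)
    have h0 : (ShortComplex.mk (𝟙 (kernel e.hom)) (𝟙 (kernel e.hom))
        ((isZero_kernel_of_mono e.hom).eq_of_src _ _)).ShortExact := by
      have hZ := isZero_kernel_of_mono e.hom
      exact ShortComplex.ShortExact.mk' (ShortComplex.exact_of_isZero_X₂ _ hZ) inferInstance inferInstance
    have := clSub_rel h0 hz hz hz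
    rw [left_eq_add] at this
    rw [this, sub_zero]
  | step p hp hL hk =>
    exact ⟨_, p ≫ e.hom, _, epi_comp _ _, hL, (chi_transport hk (kernelCompMono p e.hom).symm), rfl⟩
where
  chi_transport {A B : C} {x : KZero.K0sub P₀} (h : Chi P₀ A x) (e : A ≅ B) : Chi P₀ B x := by
    induction h generalizing B with
    | @base A hA =>
      have h0 : (ShortComplex.mk (0 : kernel e.hom ⟶ A) e.hom zero_comp).ShortExact := by
        have hZ := isZero_kernel_of_mono e.hom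
        haveI : Mono (0 : kernel e.hom ⟶ A) := ⟨fun _ _ _ => hZ.eq_of_tgt _ _⟩
        exact ShortComplex.ShortExact.mk' ((ShortComplex.exact_iff_mono _ rfl).mpr (inferInstanceAs (Mono e.hom)))
          inferInstance (inferInstanceAs (Epi e.hom))
      have hB := P₀.prop_of_iso e hA
      have hz : P₀ (kernel e.hom) := pos_ker₀ H e.hom hA hB
      have h1 := clSub_rel h0 hz hA hB
      have h2 : (ShortComplex.mk (0 : kernel e.hom ⟶ kernel e.hom) (𝟙 _) zero_comp).ShortExact := by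
        have hZ := isZero_kernel_of_mono e.hom
        exact ShortComplex.ShortExact.mk' (ShortComplex.exact_of_isZero_X₂ _ hZ) ⟨fun _ _ _ => hZ.eq_of_tgt _ _⟩
          inferInstance
      have h3 := clSub_rel h2 hz hz hz
      rw [left_eq_add] at h3
      rw [h1, h3, zero_add]
      exact Chi.base hB
    | @step A L p x hp hL hk ih =>
      exact Chi.step (p ≫ e.hom) (epi_comp _ _) hL (ih (kernelCompMono p e.hom).symm)

theorem chi_step {A : C} (hA : P₁ A) {x : KZero.K0sub P₀} (h : Chi P₀ A x) :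
    ∃ (L : C) (p : L ⟶ A) (y : KZero.K0sub P₀),
      Epi p ∧ P₀ L ∧ Chi P₀ (kernel p) y ∧ x = KZero.clSub P₀ L - y :=
  chi_iso H (Iso.refl A) h

theorem D_and_chi_of_ses : ∀ (n : ℕ) (S : ShortComplex C), S.ShortExact → D P₀ P₁ n S.X₂ → P₀ S.X₃ →
    D P₀ P₁ n S.X₁ ∧ ∀ x, Chi P₀ S.X₁ x → ∃ y, Chi P₀ S.X₂ y ∧ y = x + KZero.clSub P₀ S.X₃
  | 0, S, hS, h2, h3 => by
    have h1 : P₀ S.X₁ := H.ker₀ S hS h2 h3
    exact ⟨h1, fun x hx => ⟨_, Chi.base h2, by rw [unique_zero H h1 hx, clSub_rel hS h1 h2 h3]⟩⟩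
  | n + 1, S, hS, h2, h3 => by
    haveI := hS.epi_g
    haveI := hS.mono_f
    have hK : P₁ S.X₁ := H.ker₁ S hS h2.1 (H.le _ h3)
    obtain ⟨L, p, hp, hL⟩ := exists_cover H h2.1
    -- compare a cover of the kernel with a cover of the middle term
    have key : ∀ (M : C) (q : M ⟶ S.X₁), Epi q → P₀ M → ∃ (p' : M ⊞ L ⟶ S.X₂) (_ : Epi p') (T : ShortComplex C),
        T.ShortExact ∧ T.X₁ = kernel q ∧ T.X₂ = kernel p' ∧ P₀ T.X₃ ∧
          KZero.clSub P₀ L = KZero.clSub P₀ T.X₃ + KZero.clSub P₀ S.X₃ := by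
      intro M q hq hM
      haveI := hp
      haveI := hq
      let φ : ShortComplex.mk (biprod.inl : M ⟶ M ⊞ L) biprod.snd biprod.inl_snd ⟶ S :=
        { τ₁ := q
          τ₂ := biprod.desc (q ≫ S.f) p
          τ₃ := p ≫ S.g
          comm₁₂ := by simp
          comm₂₃ := by apply biprod.hom_ext' <;> simp }
      haveI : Epi φ.τ₁ := hq
      haveI : Epi φ.τ₃ := epi_comp _ _
      obtain ⟨he, hker⟩ := kernels_shortExact (biprod_ses M L) hS φ
      exact ⟨φ.τ₂, he, _, hker, rfl, rfl, pos_ker₀ H (p ≫ S.g) hL h3, cl_kernel H (p ≫ S.g) hL h3⟩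
    refine ⟨⟨hK, fun M q hq hM => ?_⟩, fun x hx => ?_⟩
    · obtain ⟨p', hp', T, hT, e1, e2, hT3, -⟩ := key M q hq hM
      have := (D_and_chi_of_ses n T hT (by rw [e2]; exact h2.2 _ p' hp' (p0_biprod H hM hL)) hT3).1
      rwa [e1] at this
    · obtain ⟨M, q, z, hq, hM, hz, rfl⟩ := chi_step H hK hx
      obtain ⟨p', hp', T, hT, e1, e2, hT3, hcl⟩ := key M q hq hM
      obtain ⟨y, hy, rfl⟩ := (D_and_chi_of_ses n T hT (by rw [e2]; exact h2.2 _ p' hp' (p0_biprod H hM hL)) hT3).2 z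
        (by rw [e1]; exact hz)
      rw [e2] at hy
      refine ⟨_, Chi.step p' hp' (p0_biprod H hM hL) hy, ?_⟩
      rw [cl_biprod H hM hL, hcl]
      abel

theorem chi_unique : ∀ (n : ℕ) {A : C}, D P₀ P₁ n A → ∀ {x y}, Chi P₀ A x → Chi P₀ A y → x = y
  | 0, A, hA, x, y, hx, hy => (unique_zero H hA hx).trans (unique_zero H hA hy).symm
  | n + 1, A, hA, x, y, hx, hy => by
    obtain ⟨L, p, a, hp, hL, ha, rfl⟩ := chi_step H hA.1 hx
    obtain ⟨M, q, b, hq, hM, hb, rfl⟩ := chi_step H hA.1 hy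
    let r : L ⊞ M ⟶ A := biprod.desc p q
    haveI : Epi r := epi_of_epi_fac (show biprod.inl ≫ r = p by simp [r])
    have hT : (ShortComplex.mk (𝟙 A) (0 : A ⟶ 0) comp_zero).ShortExact :=
      (ShortComplex.Splitting.ofExactOfRetraction (ShortComplex.mk (𝟙 A) (0 : A ⟶ 0) comp_zero)
        ((ShortComplex.exact_iff_epi _ rfl).mpr inferInstance) (𝟙 A) (by simp) inferInstance).shortExact
    let φ₁ : ShortComplex.mk (biprod.inl : L ⟶ L ⊞ M) biprod.snd biprod.inl_snd ⟶ ShortComplex.mk (𝟙 A) (0 : A ⟶ (0 : C)) comp_zero :=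
      { τ₁ := p, τ₂ := r, τ₃ := 0, comm₁₂ := by simp [r], comm₂₃ := by simp }
    let φ₂ : ShortComplex.mk (biprod.inr : M ⟶ L ⊞ M) biprod.fst biprod.inr_fst ⟶ ShortComplex.mk (𝟙 A) (0 : A ⟶ (0 : C)) comp_zero :=
      { τ₁ := q, τ₂ := r, τ₃ := 0, comm₁₂ := by simp [r], comm₂₃ := by simp }
    haveI : Epi φ₁.τ₁ := hp
    haveI : Epi φ₂.τ₁ := hq
    haveI : Epi φ₁.τ₃ := ⟨fun _ _ _ => (isZero_zero C).eq_of_src _ _⟩
    haveI : Epi φ₂.τ₃ := ⟨fun _ _ _ => (isZero_zero C).eq_of_src _ _⟩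
    have h1 := (kernels_shortExact (biprod_ses L M) hT φ₁).2
    have h2 := (kernels_shortExact (S := ShortComplex.mk biprod.inr biprod.fst biprod.inr_fst)
      (ShortComplex.shortExact_of_iso (biprod_swap_iso M L) (biprod_ses M L)) hT φ₂).2
    have hD : D P₀ P₁ n (kernel r) := hA.2 _ r inferInstance (p0_biprod H hL hM)
    have e₁ : kernel φ₁.τ₃ ≅ M := kernelZeroIsoSource
    have e₂ : kernel φ₂.τ₃ ≅ L := kernelZeroIsoSource
    obtain ⟨u, hu, hu'⟩ := (D_and_chi_of_ses H n _ h1 hD (P₀.prop_of_iso e₁.symm hM)).2 a ha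
    obtain ⟨w, hw, hw'⟩ := (D_and_chi_of_ses H n _ h2 hD (P₀.prop_of_iso e₂.symm hL)).2 b hb
    have heq := chi_unique n hD hu hw
    rw [hu', hw', unique_zero H (P₀.prop_of_iso e₁.symm hM) (chi_iso.chi_transport H (Chi.base hM) e₁.symm) |>.symm,
      ← unique_zero H (P₀.prop_of_iso e₂.symm hL) (chi_iso.chi_transport H (Chi.base hL) e₂.symm)] at heq
    rw [sub_eq_sub_iff_add_eq_add, add_comm _ b, ← heq, add_comm]

end Groth.Agent.Resolution28
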