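import Mathlib
import Groth.Agent.Resolution28.Basic

/-!
# The resolution theorem for K₀: additivity and bijectivity
-/

set_option autoImplicit false

universe v u

open CategoryTheory CategoryTheory.Limits ZeroObject

namespace Groth.Agent.Resolution28

variable {C : Type u} [Category.{v} C] [Abelian C] {P₀ P₁ : ObjectProperty C}
  [P₀.IsClosedUnderIsomorphisms] [P₁.IsClosedUnderIsomorphisms] (H : Hyp P₀ P₁)

/-- iterated chosen covers: `seq i` is the `i`-th syzygy -/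
structure Cover (P₀ P₁ : ObjectProperty C) (n : ℕ) (A : C) where
  L : C
  p : L ⟶ A
  epi : Epi p
  mem : P₀ L
  bad : ¬ D P₀ P₁ (n + 1) A → ¬ D P₀ P₁ n (kernel p)

include H

theorem exists_badCover (n : ℕ) {A : C} (hA : P₁ A) : Nonempty (Cover P₀ P₁ n A) := by
  by_cases h : D P₀ P₁ (n + 1) A
  · obtain ⟨L, p, hp, hL⟩ := exists_cover H hA
    exact ⟨⟨L, p, hp, hL, fun h' => absurd h h'⟩⟩
  · simp only [D, hA, true_and, not_forall] at h
    obtain ⟨L, p, hp, hL, hbad⟩ := h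
    exact ⟨⟨L, p, hp, hL, fun _ => hbad⟩⟩

theorem exists_D (h3 : ∀ A : C, P₁ A → ∃ d : ℕ, ∀ L : ChainComplex C ℕ, (∀ i, P₀ (L.X i)) →
    (∀ i, 1 ≤ i → L.ExactAt i) → Nonempty (L.homology 0 ≅ A) → P₀ (L.cycles (d + 1)))
    {A : C} (hA : P₁ A) : ∃ n, D P₀ P₁ n A := by
  classical
  obtain ⟨d, hd⟩ := h3 A hA
  refine ⟨d + 2, ?_⟩
  by_contra hbad
  let cov : ∀ (i : ℕ) (Z : {X : C // P₁ X}), Cover P₀ P₁ (d + 1 - i) Z.1 :=
    fun i Z => (exists_badCover H _ Z.2).some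
  let step : ∀ (i : ℕ) (Z : {X : C // P₁ X}), {X : C // P₁ X} := fun i Z =>
    ⟨kernel (cov i Z).p, haveI := (cov i Z).epi; pos_ker₁ H _ (H.le _ (cov i Z).mem) Z.2⟩
  let Z : ℕ → {X : C // P₁ X} := fun i => Nat.rec (motive := fun _ => {X : C // P₁ X}) ⟨A, hA⟩ step i
  have hZ : ∀ i, i ≤ d + 2 → ¬ D P₀ P₁ (d + 2 - i) (Z i).1 := by
    intro i
    induction i with
    | zero => exact fun _ => hbad
    | succ i ih =>
      intro hi
      have h1 := ih (by omega)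
      rw [show d + 2 - i = (d + 1 - i) + 1 by omega] at h1
      rw [show d + 2 - (i + 1) = d + 1 - i by omega]
      exact (cov i (Z i)).bad h1
  let p : ∀ i, (cov i (Z i)).L ⟶ (Z i).1 := fun i => (cov i (Z i)).p
  let ι : ∀ i, (Z (i + 1)).1 ⟶ (cov i (Z i)).L := fun i => kernel.ι (p i)
  have hιp : ∀ i, ι i ≫ p i = 0 := fun i => kernel.condition _
  haveI : ∀ i, Mono (ι i) := fun i => inferInstanceAs (Mono (kernel.ι _))
  haveI : ∀ i, Epi (p i) := fun i => (cov i (Z i)).epi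
  let X : ℕ → C := fun i => (cov i (Z i)).L
  let df : ∀ i, X (i + 1) ⟶ X i := fun i => p (i + 1) ≫ ι i
  have hsq : ∀ i, df (i + 1) ≫ df i = 0 := fun i => by
    simp only [df, Category.assoc]
    rw [← Category.assoc (ι (i + 1)), hιp, zero_comp, comp_zero]
  let L : ChainComplex C ℕ := ChainComplex.of X df hsq
  have hLd : ∀ i, L.d (i + 1) i = df i := fun i => ChainComplex.of_d X df i
  -- cycles in degree i + 1
  have hker : ∀ i, IsLimit (KernelFork.ofι (f := L.d (i + 1) i) (ι (i + 1))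
      (by rw [hLd]; simp only [df, ← Category.assoc]; rw [hιp, zero_comp])) := fun i =>
    KernelFork.IsLimit.ofι' _ _ fun {T} k hk => ⟨kernel.lift (p (i + 1)) k (by
      rw [hLd] at hk
      simp only [df] at hk
      exact zero_of_comp_mono (ι i) (by rw [Category.assoc]; exact hk)), kernel.lift_ι _ _ _⟩
  have hcyc : ∀ i, Nonempty (L.cycles (i + 1) ≅ (Z (i + 2)).1) := fun i =>
    ⟨(L.cyclesIsKernel (i + 1) i (by simp)).conePointUniqueUpToIso (hker i)⟩
  have hex : ∀ i, 1 ≤ i → L.ExactAt i := by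
    intro i hi
    obtain ⟨i, rfl⟩ := Nat.exists_eq_add_of_le' hi
    rw [HomologicalComplex.exactAt_iff' L (i + 2) (i + 1) i (by simp) (by simp)]
    rw [ShortComplex.exact_iff_exact_up_to_refinements]
    intro T x hx
    change x ≫ L.d (i + 1) i = 0 at hx
    rw [hLd] at hx
    have h0 : x ≫ p (i + 1) = 0 := zero_of_comp_mono (ι i) (by rw [Category.assoc]; exact hx)
    obtain ⟨T', π, hπ, y, hy⟩ := surjective_up_to_refinements_of_epi (p (i + 2)) (kernel.lift (p (i + 1)) x h0)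
    refine ⟨T', π, hπ, y, ?_⟩
    change π ≫ x = y ≫ L.d (i + 2) (i + 1)
    rw [hLd]
    have := congrArg (· ≫ ι (i + 1)) hy
    simp only [Category.assoc, ι, kernel.lift_ι] at this
    exact this
  have hhom : Nonempty (L.homology 0 ≅ A) := by
    have hc : IsColimit (CokernelCofork.ofπ (f := L.d 1 0) (p 0)
        (by rw [hLd]; simp only [df, Category.assoc]; rw [hιp, comp_zero])) :=
      CokernelCofork.IsColimit.ofπ' _ _ fun {T} k hk => by
        rw [hLd] at hk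
        simp only [df, Category.assoc] at hk
        have h0 : ι 0 ≫ k = 0 := zero_of_epi_comp (p 1) hk
        have hc := Abelian.epiIsCokernelOfKernel (KernelFork.ofι (kernel.ι (p 0)) (kernel.condition _)) (kernelIsKernel (p 0))
        exact ⟨hc.desc (CokernelCofork.ofπ k h0), hc.fac (CokernelCofork.ofπ k h0) WalkingParallelPair.one⟩
    exact ⟨L.isoHomologyι 0 0 (by simp) (L.shape 0 0 (by simp)) ≪≫
      (L.opcyclesIsCokernel 1 0 (by simp)).coconePointUniqueUpToIso hc⟩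
  have hfin := hd L (fun i => (cov i (Z i)).mem) hex hhom
  obtain ⟨e⟩ := hcyc d
  refine hZ (d + 2) le_rfl ?_
  rw [Nat.sub_self]
  exact P₀.prop_of_iso e hfin

theorem exists_chi : ∀ (n : ℕ) {A : C}, D P₀ P₁ n A → ∃ x, Chi P₀ A x
  | 0, A, h => ⟨_, Chi.base h⟩
  | n + 1, A, h => by
    obtain ⟨L, p, hp, hL⟩ := exists_cover H h.1
    obtain ⟨x, hx⟩ := exists_chi n (h.2 L p hp hL)
    exact ⟨_, Chi.step p hp hL hx⟩

theorem chi_add : ∀ (n : ℕ) (S : ShortComplex C), S.ShortExact → D P₀ P₁ n S.X₁ → D P₀ P₁ n S.X₂ →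
    D P₀ P₁ n S.X₃ → ∃ x y z, Chi P₀ S.X₁ x ∧ Chi P₀ S.X₂ y ∧ Chi P₀ S.X₃ z ∧ y = x + z
  | 0, S, hS, h1, h2, h3 => ⟨_, _, _, Chi.base h1, Chi.base h2, Chi.base h3, clSub_rel hS h1 h2 h3⟩
  | n + 1, S, hS, h1, h2, h3 => by
    haveI := hS.epi_g
    obtain ⟨M, q, hq, hM⟩ := exists_cover H h1.1
    obtain ⟨L, u', v', hL, hu, huv⟩ := H.cover S.X₂ S.X₃ S.X₃ S.g (𝟙 _) hS.epi_g h2.1 h3.1 h3.1
    rw [Category.comp_id] at huv
    haveI := hq
    haveI := hu
    let φ : ShortComplex.mk (biprod.inl : M ⟶ M ⊞ L) biprod.snd biprod.inl_snd ⟶ S :=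
      { τ₁ := q
        τ₂ := biprod.desc (q ≫ S.f) v'
        τ₃ := u'
        comm₁₂ := by simp
        comm₂₃ := by apply biprod.hom_ext' <;> simp [huv] }
    haveI : Epi φ.τ₁ := hq
    haveI : Epi φ.τ₃ := hu
    obtain ⟨he, hker⟩ := kernels_shortExact (biprod_ses M L) hS φ
    obtain ⟨a, b, c, ha, hb, hc, rfl⟩ := chi_add n _ hker (h1.2 M q hq hM)
      (h2.2 _ φ.τ₂ he (p0_biprod H hM hL)) (h3.2 L u' hu hL)
    refine ⟨_, _, _, Chi.step q hq hM ha, Chi.step φ.τ₂ he (p0_biprod H hM hL) hb, Chi.step u' hu hL hc, ?_⟩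
    rw [cl_biprod H hM hL]
    abel

theorem bijective_mapSub (hle : ∀ X, P₀ X → P₁ X) (h3 : ∀ A : C, P₁ A → ∃ d : ℕ, ∀ L : ChainComplex C ℕ, (∀ i, P₀ (L.X i)) →
    (∀ i, 1 ≤ i → L.ExactAt i) → Nonempty (L.homology 0 ≅ A) → P₀ (L.cycles (d + 1))) :
    Function.Bijective (SGA6.mapSub (𝟭 C) P₀ P₁ hle) := by
  classical
  have hx : ∀ X : Subtype P₁, ∃ x, Chi P₀ X.1 x := fun X => by
    obtain ⟨n, hn⟩ := exists_D H h3 X.2
    exact exists_chi H n hn
  choose χ hχ using hx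
  have huniq : ∀ (X : Subtype P₁) x, Chi P₀ X.1 x → x = χ X := fun X x hx => by
    obtain ⟨n, hn⟩ := exists_D H h3 X.2
    exact chi_unique H n hn hx (hχ X)
  let ψ₀ : FreeAbelianGroup (Subtype P₁) →+ KZero.K0sub P₀ := FreeAbelianGroup.lift χ
  have hrel : KZero.relSub P₁ ≤ ψ₀.ker := by
    refine (AddSubgroup.closure_le _).mpr ?_
    rintro _ ⟨S, h1, h2, h3', hS, rfl⟩
    obtain ⟨a, ha⟩ := exists_D H h3 h1
    obtain ⟨b, hb⟩ := exists_D H h3 h2
    obtain ⟨c, hc⟩ := exists_D H h3 h3'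
    obtain ⟨x, y, z, hx', hy', hz', hyxz⟩ := chi_add H (max a (max b c)) S hS
      (D_mono H (le_max_left _ _) ha) (D_mono H ((le_max_left _ _).trans (le_max_right _ _)) hb)
      (D_mono H ((le_max_right _ _).trans (le_max_right _ _)) hc)
    simp only [SetLike.mem_coe, AddMonoidHom.mem_ker, map_sub, ψ₀, FreeAbelianGroup.lift_apply_of]
    rw [← huniq ⟨_, h1⟩ x hx', ← huniq ⟨_, h2⟩ y hy', ← huniq ⟨_, h3'⟩ z hz', hyxz]
    abel
  let ψ : KZero.K0sub P₁ →+ KZero.K0sub P₀ := QuotientAddGroup.lift _ ψ₀ hrel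
  have hψ : ∀ X (h : P₁ X), ψ (KZero.clSub P₁ X) = χ ⟨X, h⟩ := fun X h => by
    rw [KZero.clSub, dif_pos h]
    exact FreeAbelianGroup.lift_apply_of _ _
  let m := SGA6.mapSub (𝟭 C) P₀ P₁ hle
  have hm : ∀ X, P₀ X → m (KZero.clSub P₀ X) = KZero.clSub P₁ X := fun X h => by
    rw [KZero.clSub, KZero.clSub, dif_pos h, dif_pos (hle X h)]
    rfl
  have hleft : ∀ a, ψ (m a) = a := by
    suffices ψ.comp m = AddMonoidHom.id _ from fun a => DFunLike.congr_fun this a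
    refine QuotientAddGroup.addMonoidHom_ext _ (FreeAbelianGroup.lift_ext _ _ ?_)
    rintro ⟨X, hX⟩
    show ψ (m (QuotientAddGroup.mk (FreeAbelianGroup.of ⟨X, hX⟩))) = QuotientAddGroup.mk (FreeAbelianGroup.of ⟨X, hX⟩)
    have e : (QuotientAddGroup.mk (FreeAbelianGroup.of ⟨X, hX⟩) : KZero.K0sub P₀) = KZero.clSub P₀ X := by
      rw [KZero.clSub, dif_pos hX]
    rw [e, hm X hX, hψ X (hle X hX), ← huniq ⟨X, hle X hX⟩ _ (Chi.base hX)]
  have hchi : ∀ (A : C) x, Chi P₀ A x → P₁ A → m x = KZero.clSub P₁ A := by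
    intro A x hx
    induction hx with
    | base h => exact fun _ => hm _ h
    | @step A L p x hp hL _ ih =>
      intro hA
      haveI := hp
      have hK := pos_ker₁ H p (H.le _ hL) hA
      rw [map_sub, hm L hL, ih hK, clSub_rel (ses_kernel p) hK (H.le _ hL) hA]
      abel
  have hright : ∀ b, m (ψ b) = b := by
    suffices m.comp ψ = AddMonoidHom.id _ from fun b => DFunLike.congr_fun this b
    refine QuotientAddGroup.addMonoidHom_ext _ (FreeAbelianGroup.lift_ext _ _ ?_)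
    rintro ⟨X, hX⟩
    show m (ψ (QuotientAddGroup.mk (FreeAbelianGroup.of ⟨X, hX⟩))) = QuotientAddGroup.mk (FreeAbelianGroup.of ⟨X, hX⟩)
    have e : (QuotientAddGroup.mk (FreeAbelianGroup.of ⟨X, hX⟩) : KZero.K0sub P₁) = KZero.clSub P₁ X := by
      rw [KZero.clSub, dif_pos hX]
    rw [e, hψ X hX, hchi X _ (hχ ⟨X, hX⟩) hX]
  exact ⟨Function.LeftInverse.injective hleft, Function.RightInverse.surjective hright⟩

end Groth.Agent.Resolution28
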